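import Cfsg.Agent.H55.JThreeOut
import Cfsg.Agent.S2067

/-!
# S4547, row `J₃`: an outer automorphism fixes an element of order 17 (helper306)

* `exists_fixed` : the semilinear automorphism fixes `D(1) B(-1) C(1)`, of order 17;
* `tau_stable` : `τ` not inner: some `x` of order 17 with `τ x` conjugate to `x`;
* `tau_sq` : `τ²` is inner.
-/

set_option autoImplicit false

namespace Cfsg.Agent.H306.K547.JThree

open Cfsg Cfsg.Spor Cfsg.Agent.J3.Core Cfsg.Agent.J3.Elts Cfsg.Agent.J3.Nineteen Cfsg.Agent.J3.Tab Cfsg.Agent.H55.JThree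
open Cfsg.Agent.H55 Subgroup

universe u v

section fixed

variable {F : Type u} [Field F] {ω : F}

/-- the table of `D(1) B(-1) C(1)` -/
def tX : List ℕ := compT (tD (1, 0)) (compT (tB (2, 0)) tC)

theorem chk17 : beqL (cols (powT tX 17)) (cols (tS 0)) = true := by decide +kernel

theorem chk1 : beqL (cols tX) (cols (tS 0)) = false := by decide +kernel

theorem exists_fixed [Fintype F] (hF : Fintype.card F = 4) (H : Good ω) :
    ∃ x : J3 F ω, orderOf x = 17 ∧ OutGen.centerQuot (phi hF H) x = x := by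
  obtain ⟨G⟩ := exists_gens hF H
  obtain ⟨s, hs⟩ := exists_scalar H G
  let x : threeJ3 F ω := G.d (1, 0) * (G.b (2, 0) * G.c)
  have h2 : ((2, 0) : F9) ≠ 0 := by decide
  have hT : RepG ω tX x := by
    refine RepG.mul ?_ (RepG.mul ?_ ?_)
    · unfold RepG; rw [G.hd]; exact repD H _
    · unfold RepG; rw [G.hb _ h2]; exact repB H _ h2
    · unfold RepG; rw [G.hc]; exact repC H
  have h17 : x ^ 17 = 1 := (hT.pow H 17).ext (repG_one H) (beqL_eq chk17)
  have hne : x ≠ 1 := by
    intro h
    have h1 : ∀ z : F9, (cols tX).getD (idx z) 0 = (cols (tS 0)).getD (idx z) 0 := fun z =>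
      (h ▸ hT : RepG ω tX 1).cols_eq H (repG_one H) z
    have h3 := h1 (0, 1)
    revert h3
    decide +kernel
  have hp : Fact (Nat.Prime 17) := ⟨by norm_num⟩
  have hox : orderOf x = 17 := orderOf_eq_prime h17 hne
  have hfix : phi hF H x = x := by
    apply mat_injective
    rw [mat_phi]
    have e1 : mat ω x = j3D F ω (1, 0) * (j3B F (2, 0) * j3C F F9.one) := by
      rw [map_mul, map_mul, G.hd, G.hb _ h2, G.hc]
    rw [e1, map_mul, map_mul, phiM_D, phiM_B, phiM_C]
    have c1 : cj (1, 0) = (1, 0) := by decide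
    have c2 : cj (2, 0) = (2, 0) := by decide
    have c3 : cj F9.one = F9.one := by decide
    rw [c1, c2, c3]
  refine ⟨QuotientGroup.mk x, ?_, ?_⟩
  · refine orderOf_eq_prime ?_ ?_
    · rw [← QuotientGroup.mk_pow, h17]; rfl
    · intro h
      have h3 : x ∈ center (threeJ3 F ω) := (QuotientGroup.eq_one_iff x).1 h
      have h4 : orderOf x ∣ Nat.card (center (threeJ3 F ω)) := by
        have := orderOf_dvd_natCard (⟨x, h3⟩ : center (threeJ3 F ω))
        rwa [Subgroup.orderOf_mk] at this
      rw [card_center hF H, hox] at h4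
      norm_num at h4
  · rw [OutGen.centerQuot_mk, hfix]

end fixed

variable {K : Type u} [Group K]

/-- not inner automorphisms: a common coset -/
theorem exists_conj (h : IsoJ3 K) {α τ : MulAut K} (hα : ∀ k, α ≠ MulAut.conj k)
    (hτ : ∀ k, τ ≠ MulAut.conj k) : ∃ s : K, ∀ x, τ x = s * α x * s⁻¹ := by
  have hR : ∀ σ : MulAut K, (∀ k, σ ≠ MulAut.conj k) → σ ∉ (MulAut.conj : K →* MulAut K).range := by
    rintro σ hσ ⟨k, hk⟩
    exact hσ k hk.symm
  rcases Cfsg.Agent.S2067.index_le K h with h1 | h1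
  · exfalso
    rw [index_eq_one] at h1
    exact hR τ hτ (by rw [h1]; trivial)
  · have h2 : τ * α⁻¹ ∈ (MulAut.conj : K →* MulAut K).range := by
      rw [mul_mem_iff_of_index_two h1]
      constructor
      · intro h3; exact absurd h3 (hR τ hτ)
      · intro h3; exact absurd ((inv_mem_iff).1 h3) (hR α hα)
    obtain ⟨s, hs⟩ := h2
    refine ⟨s, fun x => ?_⟩
    have h3 : τ = MulAut.conj s * α := by rw [hs, inv_mul_cancel_right]
    rw [h3]
    rfl

/-- **`τ²` is inner.** -/
theorem tau_sq (h : IsoJ3 K) (τ : MulAut K) : ∃ s : K, ∀ x, τ (τ x) = s * x * s⁻¹ := by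
  have h2 : τ * τ ∈ (MulAut.conj : K →* MulAut K).range := by
    rcases Cfsg.Agent.S2067.index_le K h with h1 | h1
    · rw [index_eq_one] at h1
      rw [h1]; trivial
    · exact mul_self_mem_of_index_two h1 τ
  obtain ⟨s, hs⟩ := h2
  refine ⟨s, fun x => ?_⟩
  have h3 := congrArg (fun σ : MulAut K => σ x) hs
  exact h3.symm

/-- **An outer automorphism fixes the class of an element of order 17.** -/
theorem tau_stable (h : IsoJ3 K) {τ : MulAut K} (hτ : ∀ k, τ ≠ MulAut.conj k) :
    ∃ x : K, orderOf x = 17 ∧ IsConj x (τ x) := by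
  obtain ⟨F, _, _, ω, hF, hω, ⟨e⟩⟩ := id h
  have H := good_of_card hF hω
  obtain ⟨y, hy, hfix⟩ := exists_fixed hF H
  let β : MulAut (J3 F ω) := OutGen.centerQuot (phi hF H)
  have hβ : ∀ k, β ≠ MulAut.conj k :=
    OutGen.centerQuot_not_inner (hom_center hF H) (phi_not_inner hF H)
  let α : MulAut K := (e.trans β).trans e.symm
  have hα : ∀ k, α ≠ MulAut.conj k := by
    intro k hk
    apply hβ (e k)
    ext z
    have h1 := congrArg (fun σ : MulAut K => e (σ (e.symm z))) hk
    have h2 : e (α (e.symm z)) = β z := by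
      show e (e.symm (β (e (e.symm z)))) = β z
      rw [e.apply_symm_apply, e.apply_symm_apply]
    have h3 : e ((MulAut.conj k) (e.symm z)) = e k * z * (e k)⁻¹ := by
      rw [MulAut.conj_apply, map_mul, map_mul, map_inv, e.apply_symm_apply]
    rw [h2, h3] at h1
    exact h1
  obtain ⟨s, hs⟩ := exists_conj h hα hτ
  refine ⟨e.symm y, ?_, ?_⟩
  · rw [← hy]
    exact orderOf_injective e.symm.toMonoidHom e.symm.injective y
  · refine isConj_iff.2 ⟨s, ?_⟩
    rw [hs]
    congr 2
    show e.symm y = e.symm (β (e (e.symm y)))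
    rw [e.apply_symm_apply]
    congr 1
    exact hfix.symm

end Cfsg.Agent.H306.K547.JThree
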