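import Cfsg.Agent.H306.K547.J3Fix
import Cfsg.Agent.H306.K547.Par
import Cfsg.Agent.H90.K4.JThree

/-!
# S4547, row `J₃`: three invariant good characters (helper306)

`gInv3` : the trivial character and the two characters of degree 1215 are invariant under all automorphisms. They agree at
the elements of order prime to 17; an outer automorphism fixes the class of an element of order 17.
-/

set_option autoImplicit false

namespace Cfsg.Agent.H306.K547.JThree

open Cfsg Cfsg.Agent.Characters.Core Cfsg.Agent.H686.CharKit Subgroup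
open Cfsg.Agent.H601.K4 Cfsg.Agent.H821.K547 Cfsg.Agent.M23Order.Base

universe u

variable {K : Type u} [Group K]

/-- the characters of degree 1215 agree at the elements of order prime to 17 -/
theorem agree [Finite K] (h : Spor.IsoJ3 K) {α β : IrrCharacter K} (hα : (α : K → ℂ) 1 = (1215 : ℕ))
    (hβ : (β : K → ℂ) 1 = (1215 : ℕ)) {g : K} (hg : ¬ 17 ∣ orderOf g) : (α : K → ℂ) g = (β : K → ℂ) g := by
  have hcard := (H898.J3Cent.base h).2.1
  have f17 : Fact (Nat.Prime 17) := ⟨by norm_num⟩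
  obtain ⟨P, hP, ⟨D⟩⟩ := H417.BlockCount.exists_SC (G := K) 17 (by norm_num) (by rw [hcard]; norm_num)
    (by rw [hcard]; norm_num) (fun y hy => (H898.J3Cent.seventeen h hy).1) (e := 8) (t := 2)
    (by rw [hcard]) (by norm_num)
  have key : ∀ θ : IrrCharacter K, (θ : K → ℂ) 1 = (1215 : ℕ) → θ ∈ D.X := by
    intro θ hθ
    have hd : dg θ = 1215 := by
      have h1 := dg_eq θ
      rw [hθ] at h1
      exact_mod_cast h1.symm
    by_contra hX
    by_cases hN : θ ∈ D.NE
    · rcases H417.BlockCount.mod_NE' D (by norm_num) hN with h1 | h1 <;> rw [hd] at h1 <;> norm_num at h1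
    · have h1 := H417.BlockCount.mod_out' D hN hX
      rw [hd] at h1
      norm_num at h1
  have h1 := D.rel α (key α hα) g hg
  rw [D.rel β (key β hβ) g hg] at h1
  rcases D.d_mem with h2 | h2
  · rw [h2] at h1
    simpa using h1.symm
  · rw [h2] at h1
    simpa using h1.symm

/-- the elements of order divisible by 17 -/
theorem order_seventeen [Finite K] (h : Spor.IsoJ3 K) {g : K} (hg : 17 ∣ orderOf g) : orderOf g = 17 := by
  obtain ⟨m, hm⟩ := hg
  have hpos : 0 < orderOf g := orderOf_pos g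
  have h1 : orderOf (g ^ m) = 17 := by
    rw [orderOf_pow_of_dvd (by rintro rfl; omega) ⟨17, by rw [hm, mul_comm]⟩, hm,
      Nat.mul_div_cancel _ (by omega)]
  have h2 := (H898.J3Cent.seventeen h h1).1
  have h3 : g ∈ centralizer ({g ^ m} : Set K) := by
    rw [mem_centralizer_singleton_iff, ← pow_succ, ← pow_succ']
  have h4 : orderOf g ∣ 17 := by
    have h5 := orderOf_dvd_natCard (⟨g, h3⟩ : centralizer ({g ^ m} : Set K))
    rwa [Subgroup.orderOf_mk, h2] at h5
  exact Nat.dvd_antisymm h4 ⟨m, hm⟩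

/-- the elements of order 17 are conjugate to powers of `x` -/
theorem conj_pow [Finite K] (h : Spor.IsoJ3 K) {x y : K} (hx : orderOf x = 17) (hy : orderOf y = 17) :
    ∃ (k : ℕ) (c : K), y = c * x ^ k * c⁻¹ := by
  have hcard := (H898.J3Cent.base h).2.1
  have f17 : Fact (Nat.Prime 17) := ⟨by norm_num⟩
  have hS : ∀ z : K, orderOf z = 17 → Nat.card (zpowers z) = 17 ^ (Nat.card K).factorization 17 := by
    intro z hz
    rw [Nat.card_zpowers, hz, hcard]
    have : (50232960 : ℕ).factorization 17 = 1 := by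
      rw [show (50232960 : ℕ) = 17 * 2954880 by norm_num, Nat.factorization_mul (by norm_num) (by norm_num)]
      rw [Finsupp.add_apply, Nat.Prime.factorization_self (by norm_num),
        Nat.factorization_eq_zero_of_not_dvd (by norm_num)]
    rw [this, pow_one]
  let P : Sylow 17 K := Sylow.ofCard (zpowers x) (hS x hx)
  let Q : Sylow 17 K := Sylow.ofCard (zpowers y) (hS y hy)
  obtain ⟨c, hc⟩ := MulAction.exists_smul_eq K P Q
  have h1 : y ∈ (Q : Subgroup K) := mem_zpowers y
  rw [← hc, Sylow.coe_subgroup_smul] at h1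
  obtain ⟨z, hz, hzy⟩ := h1
  have hz' : z ∈ zpowers x := hz
  obtain ⟨k, hk⟩ := (mem_powers_iff_mem_zpowers.2 hz' : z ∈ Submonoid.powers x)
  have hk : x ^ k = z := hk
  refine ⟨k, c, ?_⟩
  rw [hk]
  exact hzy.symm

/-- **The characters of degree 1215 are invariant.** -/
theorem inv_1215 [Finite K] (h : Spor.IsoJ3 K) {α β : IrrCharacter K} (hαβ : α ≠ β) (hα : (α : K → ℂ) 1 = (1215 : ℕ))
    (hβ : (β : K → ℂ) 1 = (1215 : ℕ)) (hall : ∀ θ : IrrCharacter K, (θ : K → ℂ) 1 = (1215 : ℕ) → θ = α ∨ θ = β)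
    (τ : MulAut K) : tw τ α = α := by
  rcases hall (tw τ α) (by rw [tw_apply, map_one, hα]) with h1 | h1
  · exact h1
  exfalso
  -- `τ` is not inner
  have hτ : ∀ k, τ ≠ MulAut.conj k := by
    intro k hk
    have h2 : tw τ α = α := tw_conj k (fun x => by rw [hk, MulAut.conj_apply]) α
    exact hαβ (h2.symm.trans h1)
  obtain ⟨x, hx, hxc⟩ := tau_stable h hτ
  obtain ⟨c, hc⟩ := isConj_iff.1 hxc
  have hcl : ∀ a b : K, (α : K → ℂ) (b * a * b⁻¹) = (α : K → ℂ) a := fun a b => isIrr_isClassFunction α.2 a b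
  -- the elements of order 17
  have h17 : ∀ y : K, orderOf y = 17 → (α : K → ℂ) y = (β : K → ℂ) y := by
    intro y hy
    obtain ⟨k, d, hd⟩ := conj_pow h hx hy
    have h2 : (β : K → ℂ) y = (α : K → ℂ) (τ y) := by rw [← h1]; rfl
    rw [h2, hd, map_mul, map_mul, map_inv, map_pow, hcl, hcl, ← hc, conj_pow' c x k, hcl]
  apply hαβ
  apply Subtype.ext
  funext g
  by_cases hg : 17 ∣ orderOf g
  · exact h17 g (order_seventeen h hg)
  · exact agree h hα hβ hg
where
  conj_pow' (c x : K) (k : ℕ) : (c * x * c⁻¹) ^ k = c * x ^ k * c⁻¹ := _root_.conj_pow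

/-- **Three invariant good characters of `J₃`.** -/
theorem gInv3 (h : Spor.IsoJ3 K) (τ : MulAut K) : GInv3 τ := by
  have := H90.K4.JThree.finite h
  obtain ⟨α, β, hαβ, hrα, hrβ, hdα, hdβ, hall⟩ := H90.K4.JThree.exists_two h
  have good : ∀ (χ : IrrCharacter K) (n : ℕ), (∀ g : K, ((χ : K → ℂ) g).im = 0) → (χ : K → ℂ) 1 = n → Odd n →
      Good (χ : K → ℂ) := fun χ n hr hd ho =>
    ⟨H90.K4.JThree.oddIrr_of hd ho, H90.K4.JThree.sigFix h χ.2, InB0.of_real (H90.K4.JThree.oddIrr_of hd ho) hr⟩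
  have iα := inv_1215 h hαβ hdα hdβ hall τ
  have iβ := inv_1215 h hαβ.symm hdβ hdα (fun θ hθ => (hall θ hθ).symm) τ
  have hne : ∀ χ : IrrCharacter K, (χ : K → ℂ) 1 = (1215 : ℕ) → (1 : K → ℂ) ≠ (χ : K → ℂ) := by
    intro χ hχ h1
    rw [← h1] at hχ
    norm_num at hχ
  have hαβ' : (α : K → ℂ) ≠ (β : K → ℂ) := fun h => hαβ (Subtype.ext h)
  refine ⟨![(1 : K → ℂ), α, β], ?_, ?_⟩
  · intro i j hij
    have h1 := hne α hdα
    have h2 := hne β hdβ
    fin_cases i <;> fin_cases j <;>
      first | rfl | (exfalso; revert hij; simp [h1, h2, h1.symm, h2.symm, hαβ', hαβ'.symm])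
  · intro i
    fin_cases i
    · exact ⟨good_one, fun _ => rfl⟩
    · exact ⟨good α 1215 hrα hdα (by decide), fun x => congrArg (fun χ : IrrCharacter K => (χ : K → ℂ) x) iα⟩
    · exact ⟨good β 1215 hrβ hdβ (by decide), fun x => congrArg (fun χ : IrrCharacter K => (χ : K → ℂ) x) iβ⟩

end Cfsg.Agent.H306.K547.JThree
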