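import Cfsg.Agent.H306.K547.J3Inv
import Cfsg.Agent.H821.K547.Tools
import Cfsg.Agent.S2135
import Cfsg.Agent.H845.K547.Jordan

/-!
# S4547, row `J₃` (helper306)

* `d3` : the Sylow 2-subgroups of `J₃` need three generators (`2^(1+4) : A₅` has odd index);
* `row` : the row of S4547.
-/

set_option autoImplicit false

namespace Cfsg.Agent.H306.K547.JThree

open Cfsg Subgroup
open Cfsg.Agent.H601.K4 Cfsg.Agent.H821.K547

universe u v

theorem perm_cases : ∀ σ : Equiv.Perm (Fin 5), Equiv.Perm.sign σ = 1 → σ ^ 2 = 1 ∨ σ ^ 3 = 1 ∨ σ ^ 5 = 1 := by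
  decide +kernel

/-- the Sylow 2-subgroups of `A₅` are Klein four groups -/
theorem rk_A5 {H : Type u} [Group H] [Finite H] (e : H ≃* alternatingGroup (Fin 5)) (Q : Sylow 2 H) : Rk 2 Q := by
  have : Fact (Nat.Prime 2) := ⟨Nat.prime_two⟩
  have hcard : Nat.card H = 60 := by
    rw [Nat.card_congr e.toEquiv, nat_card_alternatingGroup, Nat.card_eq_fintype_card, Fintype.card_fin]
    rfl
  have hQ : Nat.card Q = 4 := by
    have h1 : Nat.card Q = 2 ^ (Nat.card H).factorization 2 := Q.card_eq_multiplicity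
    rw [h1, hcard]
    have : (60 : ℕ).factorization 2 = 2 := by
      rw [show (60 : ℕ) = 2 ^ 2 * 15 by norm_num, Nat.factorization_mul (by norm_num) (by norm_num)]
      rw [Finsupp.add_apply, Nat.Prime.factorization_pow (by norm_num), Finsupp.single_eq_same,
        Nat.factorization_eq_zero_of_not_dvd (by norm_num)]
    rw [this]
    norm_num
  refine Rk.of_sq (N := ⊥) (fun x => ?_) ?_
  · rw [mem_bot]
    have h4 : x ^ 4 = 1 := by rw [← hQ]; exact pow_card_eq_one'
    have h4' : (x : H) ^ 4 = 1 := by exact_mod_cast congrArg Subtype.val h4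
    have hinj : ∀ n : ℕ, ((e (x : H) : alternatingGroup (Fin 5)) : Equiv.Perm (Fin 5)) ^ n = 1 → (x : H) ^ n = 1 := by
      intro n hn
      apply e.injective
      rw [map_pow, map_one]
      apply Subtype.ext
      exact hn
    have h2 : (x : H) ^ 2 = 1 := by
      rcases perm_cases _ (Equiv.Perm.mem_alternatingGroup.1 (e (x : H)).2) with h | h | h
      · exact hinj 2 h
      · have h3 := hinj 3 h
        have h1 : (x : H) = 1 := by
          have : (x : H) ^ 4 = (x : H) ^ 3 * x := pow_succ _ _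
          rw [h4', h3, one_mul] at this
          exact this.symm
        rw [h1, one_pow]
      · have h5 := hinj 5 h
        have h1 : (x : H) = 1 := by
          have : (x : H) ^ 5 = (x : H) ^ 4 * x := pow_succ _ _
          rw [h4', h5, one_mul] at this
          exact this.symm
        rw [h1, one_pow]
    exact Subtype.ext h2
  · rw [index_bot, hQ]
    norm_num

theorem d3_J3 {F : Type u} [Field F] [Fintype F] (hF : Fintype.card F = 4) {ω : F} (hω : ω ^ 2 + ω + 1 = 0) :
    D3 (Spor.J3 F ω) := by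
  have hJ := H55.JThree.isoJ3 hF hω
  have hc := (H898.J3Cent.base hJ).2.1
  have hfin : Finite (Spor.J3 F ω) := Nat.finite_of_card_ne_zero (by rw [hc]; norm_num)
  obtain ⟨-, t, ht, Q, hQn, -, hQ, -, ⟨H, hH⟩, ⟨e⟩⟩ := Cfsg.Agent.S2135.result hF ω hω
  have hM : Nat.card (centralizer ({t} : Set (Spor.J3 F ω))) = 1920 := by
    have h1 := card_eq_card_quotient_mul_card_subgroup Q
    rw [Nat.card_congr e.toEquiv, nat_card_alternatingGroup, hQ, Nat.card_fin] at h1
    rw [h1]
    rfl
  have hi : ¬ 2 ∣ (centralizer ({t} : Set (Spor.J3 F ω))).index := by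
    have h1 := index_mul_card (centralizer ({t} : Set (Spor.J3 F ω)))
    rw [hM, hc] at h1
    have h2 : (centralizer ({t} : Set (Spor.J3 F ω))).index = 26163 := by omega
    rw [h2]
    norm_num
  refine D3.of_split _ hi Q H ?_ ?_ hH (rk_A5 ((hH.symm.QuotientMulEquiv).symm.trans e))
  · exact IsPGroup.of_card (n := 5) (by rw [hQ]; norm_num)
  · intro h1
    rw [h1, card_bot] at hQ
    norm_num at hQ

theorem d3 {K : Type u} [Group K] (h : Spor.IsoJ3 K) : D3 K := by
  have := H90.K4.JThree.finite h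
  obtain ⟨F, _, _, ω, hF, hω, ⟨e⟩⟩ := h
  exact D3.congr e (d3_J3 hF hω)

theorem base {K : Type u} [Group K] (h : Spor.IsoJ3 K) : BaseRow K :=
  Or.inl ⟨H90.K4.JThree.good5 h, d3 h⟩

/-- **S4547, row `J₃`** -/
theorem row {K : Type u} [Group K] (h : Spor.IsoJ3 K) : Row K := by
  refine ⟨base h, fun τ hτ hin => ⟨fun _ => ?_, fun _ => gInv3 h τ⟩⟩
  have := H90.K4.JThree.finite h
  obtain ⟨hs, hc, -⟩ := H898.J3Cent.base h
  obtain ⟨s, hs2⟩ := tau_sq h τ
  have hna : ¬ IsMulCommutative K := fun hm =>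
    H462.RealJ.nonab_of_card (G := K) (by rw [hc]; norm_num) fun x y => hm.1.1 x y
  exact H845.K547.d3_autExt hna (d3 h) ⟨s, hs2⟩ hin

end Cfsg.Agent.H306.K547.JThree
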